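import Groth.Agent.PicTangent.TanAlg
import Groth.Agent.H23.MulTangent
import Mathlib.AlgebraicGeometry.Stalk
import Mathlib.AlgebraicGeometry.Noetherian

/-!
# Tangent vectors at a rational point as morphisms
-/

universe u

open CategoryTheory CategoryTheory.Limits AlgebraicGeometry TopologicalSpace

noncomputable section

set_option autoImplicit false
set_option maxHeartbeats 400000
set_option synthInstance.maxHeartbeats 100000
set_option backward.isDefEq.respectTransparency false
set_option backward.isDefEq.respectTransparency.types false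

namespace Groth.Agent.PicTangent

variable {k : Type u} [Field k] {X : Scheme.{u}} (s : X ⟶ Spec (CommRingCat.of k))
  (e : Spec (CommRingCat.of k) ⟶ X) (he : e ≫ s = 𝟙 _)

/-- The rational point. -/
abbrev ptOf : X := e (IsLocalRing.closedPoint k)

/-- The structure map of the local ring at the point. -/
def strRing : k →+* X.presheaf.stalk (ptOf e) :=
  (Spec.preimage (X.fromSpecStalk (ptOf e) ≫ s)).hom

theorem map_strRing : Spec.map (CommRingCat.ofHom (strRing s e)) = X.fromSpecStalk (ptOf e) ≫ s :=
  Spec.map_preimage _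

/-- Evaluation at the point. -/
def evRing : X.presheaf.stalk (ptOf e) ⟶ CommRingCat.of k := Scheme.stalkClosedPointTo e

theorem map_evRing : Spec.map (evRing e) ≫ X.fromSpecStalk (ptOf e) = e :=
  Scheme.Spec_stalkClosedPointTo_fromSpecStalk e

include he in
theorem evRing_str (c : k) : evRing e (strRing s e c) = c := by
  have h : Spec.map (CommRingCat.ofHom (strRing s e) ≫ evRing e) = Spec.map (𝟙 (CommRingCat.of k)) :=
    (Spec.map_comp _ _).trans ((congrArg (Spec.map (evRing e) ≫ ·) (map_strRing s e)).trans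
      ((Category.assoc _ _ _).symm.trans ((congrArg (· ≫ s) (map_evRing e)).trans (he.trans (Spec.map_id _).symm))))
  have h2 := Spec.map_injective h
  generalize strRing s e = a, evRing e = b at h2 ⊢
  exact ConcreteCategory.congr_hom h2 c

variable {K : Type u} [Field K] [Algebra k K] (M : Type u) [AddCommGroup M] [Module K M] [Module Kᵐᵒᵖ M]
  [IsCentralScalar K M]

/-- The field extension. -/
abbrev extSpec : Spec (CommRingCat.of K) ⟶ Spec (CommRingCat.of k) :=
  Spec.map (CommRingCat.ofHom (algebraMap k K))

/-- The thickened point. -/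
abbrev thickSpec : Spec (CommRingCat.of (TrivSqZeroExt K M)) ⟶ Spec (CommRingCat.of K) :=
  Spec.map (CommRingCat.ofHom (algebraMap K (TrivSqZeroExt K M)))

/-- The reduced point. -/
abbrev redSpec : Spec (CommRingCat.of K) ⟶ Spec (CommRingCat.of (TrivSqZeroExt K M)) :=
  Spec.map (CommRingCat.ofHom (TrivSqZeroExt.fstHom K K M).toRingHom)

variable {M}

/-- The morphism of a ring homomorphism out of the local ring. -/
def morOf (γ : X.presheaf.stalk (ptOf e) →+* TrivSqZeroExt K M) :
    Spec (CommRingCat.of (TrivSqZeroExt K M)) ⟶ X :=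
  Spec.map (CommRingCat.ofHom γ) ≫ X.fromSpecStalk (ptOf e)

theorem morOf_injective : Function.Injective (morOf (K := K) (M := M) e) := fun γ γ' h => by
  have h' := Spec.map_injective ((cancel_mono (X.fromSpecStalk (ptOf e))).1 h)
  exact congrArg CommRingCat.Hom.hom h'

theorem morOf_comp {N : Type u} [AddCommGroup N] [Module K N] [Module Kᵐᵒᵖ N]
    [IsCentralScalar K N] (ψ : TrivSqZeroExt K M →+* TrivSqZeroExt K N)
    (γ : X.presheaf.stalk (ptOf e) →+* TrivSqZeroExt K M) :
    Spec.map (CommRingCat.ofHom ψ) ≫ morOf e γ = morOf e (ψ.comp γ) := by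
  rw [morOf, morOf, ← Category.assoc, ← Spec.map_comp, ← CommRingCat.ofHom_comp]

/-- The algebra structure. -/
abbrev stalkAlgebra : Algebra k (X.presheaf.stalk (ptOf e)) := (strRing s e).toAlgebra

/-- Evaluation as an algebra homomorphism. -/
def evAlg : letI := stalkAlgebra s e; X.presheaf.stalk (ptOf e) →ₐ[k] k :=
  letI := stalkAlgebra s e
  { (evRing e).hom with commutes' := fun c => evRing_str s e he c }

theorem isTan_iff (γ : X.presheaf.stalk (ptOf e) →+* TrivSqZeroExt K M) :
    (letI := stalkAlgebra s e; IsTan (evAlg s e he) M γ) ↔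
      morOf e γ ≫ s = thickSpec M ≫ extSpec (k := k) ∧ redSpec M ≫ morOf e γ = extSpec (k := k) ≫ e := by
  letI := stalkAlgebra s e
  have h1 : morOf e γ ≫ s = thickSpec M ≫ extSpec (k := k) ↔
      ∀ c, γ (strRing s e c) = TrivSqZeroExt.inl (algebraMap k K c) := by
    rw [morOf, Category.assoc, ← map_strRing, ← Spec.map_comp, ← Spec.map_comp]
    constructor
    · exact fun h c => ConcreteCategory.congr_hom (Spec.map_injective h) c
    · exact fun h => congrArg Spec.map (CommRingCat.hom_ext (RingHom.ext h))
  have h2 : redSpec M ≫ morOf e γ = extSpec (k := k) ≫ e ↔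
      ∀ r, (γ r).fst = algebraMap k K (evRing e r) := by
    have he' : extSpec (k := k) (K := K) ≫ e =
        (extSpec (k := k) (K := K) ≫ Spec.map (evRing e)) ≫ X.fromSpecStalk (ptOf e) :=
      (congrArg (extSpec (k := k) (K := K) ≫ ·) (map_evRing e).symm).trans (Category.assoc _ _ _).symm
    rw [morOf, he', ← Category.assoc, cancel_mono, ← Spec.map_comp, ← Spec.map_comp]
    constructor
    · exact fun h r => ConcreteCategory.congr_hom (Spec.map_injective h) r
    · exact fun h => congrArg Spec.map (CommRingCat.hom_ext (RingHom.ext h))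
  rw [h1, h2]
  exact ⟨fun h => ⟨h.alg, h.fst⟩, fun h => ⟨h.2, h.1⟩⟩

theorem exists_morOf (h : Spec (CommRingCat.of (TrivSqZeroExt K M)) ⟶ X)
    (h₂ : redSpec M ≫ h = extSpec (k := k) ≫ e) : ∃ γ, morOf e γ = h := by
  haveI : IsLocalRing (TrivSqZeroExt K M) :=
    IsLocalRing.of_nonunits_add fun a b ha hb => by
      rw [mem_nonunits_iff, TrivSqZeroExt.isUnit_iff_isUnit_fst, isUnit_iff_ne_zero, not_not] at *
      rw [TrivSqZeroExt.fst_add, ha, hb, add_zero]
  have hpt : h (IsLocalRing.closedPoint _) = ptOf e := by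
    have := H23.MulTangent.subsingleton_spec (K := K) M
    have hz : redSpec M (IsLocalRing.closedPoint K) = IsLocalRing.closedPoint (TrivSqZeroExt K M) :=
      Subsingleton.elim (α := PrimeSpectrum _) _ _
    have hk : extSpec (k := k) (K := K) (IsLocalRing.closedPoint K) = IsLocalRing.closedPoint k :=
      Subsingleton.elim (α := PrimeSpectrum k) _ _
    rw [← hz, ← Scheme.Hom.comp_apply, h₂, Scheme.Hom.comp_apply, hk]
  obtain ⟨xf, rfl⟩ := (SpecToEquivOfLocalRing X (CommRingCat.of (TrivSqZeroExt K M))).symm.surjective h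
  obtain ⟨x, γ, hγ⟩ := xf
  haveI := hγ
  have hx : x = ptOf e := by
    rw [← hpt]
    show x = X.fromSpecStalk x (Spec.map γ (IsLocalRing.closedPoint _))
    rw [Spec_closedPoint, Scheme.fromSpecStalk_closedPoint]
  subst hx
  exact ⟨γ.hom, rfl⟩

end Groth.Agent.PicTangent
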