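import Groth.Agent.PicTangent.Kernel
import Groth.Agent.Hensel.StrictSchemes
import Groth.Prelude.Def_PicRel2
import Mathlib.Algebra.TrivSqZeroExt.Basic
import Mathlib.FieldTheory.IsAlgClosed.Basic

/-!
# Tangent vectors of a relative Picard scheme over an algebraically closed field
-/

universe u

open CategoryTheory CategoryTheory.Limits AlgebraicGeometry Opposite TopologicalSpace DualNumber

noncomputable section

set_option autoImplicit false
set_option maxHeartbeats 400000
set_option synthInstance.maxHeartbeats 100000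
set_option backward.isDefEq.respectTransparency false
set_option backward.isDefEq.respectTransparency.types false

namespace Groth.Agent.PicTangent

open AModX PicH1

variable {K : Type u} [Field K]

section Local

theorem exists_section_covers (A : Type u) [CommRing A] [IsLocalRing A] [IsSepClosed (IsLocalRing.ResidueField A)]
    [HenselianLocalRing A] {ι : Type u} (U : ι → (Spec (CommRingCat.of A)).Etale) (hU : EtCoh.Covers U) :
    ∃ (i : ι) (u : Spec (CommRingCat.of A) ⟶ (U i).left), u ≫ (U i).hom = 𝟙 _ := by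
  obtain ⟨i, y, hy⟩ := hU (IsLocalRing.closedPoint A)
  obtain ⟨u, hu, -⟩ := (Hensel.strictlyHenselian_iff_exists_section A).1 ⟨inferInstance, inferInstance⟩
    (U i).left (U i).hom (U i).prop y hy
  exact ⟨i, u, hu⟩

theorem henselian_of_sq_eq_zero (A : Type u) [CommRing A] [IsLocalRing A]
    (h : ∀ x ∈ IsLocalRing.maximalIdeal A, ∀ y ∈ IsLocalRing.maximalIdeal A, x * y = 0) :
    HenselianLocalRing A where
  is_henselian f _ a₀ h₁ h₂ := by
    obtain ⟨v, hv⟩ := h₂
    let d := -(f.eval a₀) * (v⁻¹ : Aˣ)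
    have hd : d ∈ IsLocalRing.maximalIdeal A := Ideal.mul_mem_right _ _ (neg_mem h₁)
    refine ⟨a₀ + d, ?_, by simpa using hd⟩
    show f.eval (a₀ + d) = 0
    rw [Polynomial.eval_add_of_sq_eq_zero _ _ _ (by rw [pow_two]; exact h d hd d hd), ← hv]
    show f.eval a₀ + (v : A) * (-(f.eval a₀) * (v⁻¹ : Aˣ)) = 0
    linear_combination -(f.eval a₀) * v.mul_inv

variable (M : Type u) [AddCommGroup M] [Module K M] [Module Kᵐᵒᵖ M] [IsCentralScalar K M]

theorem trivSq_isUnit_iff (x : TrivSqZeroExt K M) : IsUnit x ↔ x.fst ≠ 0 := by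
  rw [TrivSqZeroExt.isUnit_iff_isUnit_fst, isUnit_iff_ne_zero]

theorem trivSq_isLocal : IsLocalRing (TrivSqZeroExt K M) :=
  IsLocalRing.of_nonunits_add fun a b ha hb => by
    rw [mem_nonunits_iff, trivSq_isUnit_iff, not_not] at *
    rw [TrivSqZeroExt.fst_add, ha, hb, add_zero]

theorem trivSq_henselian [IsLocalRing (TrivSqZeroExt K M)] : HenselianLocalRing (TrivSqZeroExt K M) :=
  henselian_of_sq_eq_zero _ fun x hx y hy => by
    rw [IsLocalRing.mem_maximalIdeal, mem_nonunits_iff, trivSq_isUnit_iff, not_not] at hx hy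
    ext <;> simp [hx, hy]

theorem trivSq_sepClosed [IsAlgClosed K] [IsLocalRing (TrivSqZeroExt K M)] :
    IsSepClosed (IsLocalRing.ResidueField (TrivSqZeroExt K M)) := by
  let g : K →+* IsLocalRing.ResidueField (TrivSqZeroExt K M) :=
    (IsLocalRing.residue _).comp (TrivSqZeroExt.inlHom K M)
  have hg : Function.Bijective g := by
    refine ⟨g.injective, fun z => ?_⟩
    obtain ⟨x, rfl⟩ := IsLocalRing.residue_surjective z
    refine ⟨x.fst, (Ideal.Quotient.eq).2 ?_⟩
    rw [IsLocalRing.mem_maximalIdeal, mem_nonunits_iff, trivSq_isUnit_iff, not_not]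
    simp
  have : IsAlgClosed (IsLocalRing.ResidueField (TrivSqZeroExt K M)) :=
    IsAlgClosed.of_ringEquiv K _ (RingEquiv.ofBijective g hg)
  infer_instance

theorem exists_section_trivSq [IsAlgClosed K] {ι : Type u}
    (U : ι → (Spec (CommRingCat.of (TrivSqZeroExt K M))).Etale) (hU : EtCoh.Covers U) :
    ∃ (i : ι) (u : Spec (CommRingCat.of (TrivSqZeroExt K M)) ⟶ (U i).left), u ≫ (U i).hom = 𝟙 _ := by
  haveI := trivSq_isLocal (K := K) M
  haveI := trivSq_henselian (K := K) M
  haveI := trivSq_sepClosed (K := K) M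
  exact exists_section_covers _ U hU

theorem exists_section_field [IsAlgClosed K] {ι : Type u}
    (U : ι → (Spec (CommRingCat.of K)).Etale) (hU : EtCoh.Covers U) :
    ∃ (i : ι) (u : Spec (CommRingCat.of K) ⟶ (U i).left), u ≫ (U i).hom = 𝟙 _ := by
  haveI : IsAlgClosed (IsLocalRing.ResidueField K) :=
    IsAlgClosed.of_ringEquiv K _ (RingEquiv.ofBijective (IsLocalRing.residue K)
      ⟨(IsLocalRing.residue K).injective, IsLocalRing.residue_surjective⟩)
  exact exists_section_covers _ U hU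

end Local

variable {Y : Scheme.{u}} (q : Y ⟶ Spec (CommRingCat.of K)) {P : Over (Spec (CommRingCat.of K))}
  {φ : ∀ T : Over (Spec (CommRingCat.of K)), PicF.Cl (PicF.XT q T) → (T ⟶ P)}

/-- The spectrum of an algebra over the field. -/
abbrev O (A : Type u) [CommRing A] [Algebra K A] : Over (Spec (CommRingCat.of K)) := Over.mk (algSpec A)

/-- The morphism of spectra of a map of algebras. -/
def om {A A' : Type u} [CommRing A] [Algebra K A] [CommRing A'] [Algebra K A'] (ψ : A →ₐ[K] A') :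
    O (K := K) A' ⟶ O (K := K) A :=
  Over.homMk (Spec.map (CommRingCat.ofHom ψ.toRingHom))
    (show Spec.map (CommRingCat.ofHom ψ.toRingHom) ≫ algSpec A = algSpec A' by
      rw [← Spec.map_comp, ← CommRingCat.ofHom_comp,
        show ψ.toRingHom.comp (algebraMap K A) = algebraMap K A' from ψ.comp_algebraMap])

theorem XTmap_om {A A' : Type u} [CommRing A] [Algebra K A] [CommRing A'] [Algebra K A'] (ψ : A →ₐ[K] A') :
    PicF.XTmap q (om ψ) = bcMap q ψ := by
  refine pullback.hom_ext ?_ ?_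
  · exact ((pullback.lift_fst _ _ _).trans (Category.comp_id _)).trans (bcMap_fst q ψ).symm
  · exact (pullback.lift_snd _ _ _).trans (pullback.lift_snd _ _ _).symm

variable (P φ) in
/-- The origin. -/
def origin : O (K := K) K ⟶ P := φ (O (K := K) K) (PicF.cl (Coh.structureModule (PicF.XT q (O (K := K) K))))

theorem isInvertibleCl_one (Z : Scheme.{u}) : PicF.IsInvertibleCl (PicF.cl (Coh.structureModule Z)) :=
  (PicLoc.unitPicSet Z).2

theorem pullCl_one {Z Z' : Scheme.{u}} (g : Z' ⟶ Z) :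
    PicF.pullCl g (PicF.cl (Coh.structureModule Z)) = PicF.cl (Coh.structureModule Z') :=
  congrArg Subtype.val (PicLoc.invCl_map_unitPicSet g)

theorem section_pull {T : Over (Spec (CommRingCat.of K))} {ι : Type u} {U : ι → T.left.Etale} {i : ι}
    (u : T.left ⟶ (U i).left) (hu : u ≫ (U i).hom = 𝟙 _) :
    ∃ u' : T ⟶ PicRel.ovr T (U i), u' ≫ PicRel.ovrHom T (U i) = 𝟙 T :=
  ⟨Over.homMk u (show u ≫ (U i).hom ≫ T.hom = T.hom by rw [← Category.assoc, hu, Category.id_comp]),
    Over.OverMorphism.ext hu⟩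

theorem cls_zero {Z X : Scheme.{u}} (f : Z ⟶ X) [PicGrp.Law Z] (R : Res f) (x : CohTop.H (oSh X) 1) :
    cls f (τ := (0 : Γ(Z, ⊤))) (mul_zero 0) R x = 0 :=
  (congrArg (fun φ => picOfH R (Sheaf.H.map φ 1 x)) (onePlus_zero f)).trans
    (by rw [Sheaf.H.map_apply, Abelian.Ext.mk₀_zero, Abelian.Ext.comp_zero, map_zero])

variable (hP : PicRel.IsRelPic q P φ)

include hP in
theorem eq_of_phi_eq {T : Over (Spec (CommRingCat.of K))}
    (hT : ∀ {ι : Type u} (U : ι → T.left.Etale), EtCoh.Covers U → ∃ (i : ι) (u : T.left ⟶ (U i).left),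
      u ≫ (U i).hom = 𝟙 _)
    {c c' : PicF.Cl (PicF.XT q T)} (hc : PicF.IsInvertibleCl c) (hc' : PicF.IsInvertibleCl c')
    (h : φ T c = φ T c') : c = c' := by
  obtain ⟨ι, U, hU, hi⟩ := hP.locallyInjective T c c' hc hc' h
  obtain ⟨i, u, hu⟩ := hT U hU
  obtain ⟨u', hu'⟩ := section_pull u hu
  have h1 := congrArg (PicF.pullCl (PicF.XTmap q u')) (hi i)
  rw [← PicLoc.pullCl_comp, ← PicLoc.pullCl_comp] at h1
  have h2 : PicF.XTmap q u' ≫ PicF.XTmap q (PicRel.ovrHom T (U i)) = 𝟙 _ := by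
    refine pullback.hom_ext ?_ ?_
    · simp [PicF.XTmap]
    · have := congrArg CommaMorphism.left hu'
      simp only [Over.comp_left, Over.id_left] at this
      simp only [PicF.XTmap, Category.assoc, pullback.lift_snd, pullback.lift_snd_assoc, Category.id_comp]
      rw [this]; exact Category.comp_id _
  rwa [h2, PicLoc.pullCl_id, PicLoc.pullCl_id] at h1

include hP in
theorem exists_cl {T : Over (Spec (CommRingCat.of K))}
    (hT : ∀ {ι : Type u} (U : ι → T.left.Etale), EtCoh.Covers U → ∃ (i : ι) (u : T.left ⟶ (U i).left),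
      u ≫ (U i).hom = 𝟙 _)
    (g : T ⟶ P) : ∃ c, PicF.IsInvertibleCl c ∧ φ T c = g := by
  obtain ⟨ι, U, hU, hi⟩ := hP.locallySurjective T g
  obtain ⟨i, u, hu⟩ := hT U hU
  obtain ⟨u', hu'⟩ := section_pull u hu
  obtain ⟨c, hc, hcg⟩ := hi i
  exact ⟨_, PicLoc.isInvertibleCl_pullCl (PicF.XTmap q u') hc, by
    rw [hP.natural _ _ u' c hc, hcg, ← Category.assoc, hu', Category.id_comp]⟩

/-- The closed fibre in the form of a base change. -/
theorem incl_eq : pullback.fst q (algSpec (K := K) K) ≫ incl q = bcMap q (TrivSqZeroExt.fstHom K K K) := by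
  refine pullback.hom_ext ?_ ?_
  · rw [Category.assoc, show incl q ≫ pullback.fst q (algSpec K[ε]) = 𝟙 Y from incl_prj q, Category.comp_id]
    exact (bcMap_fst q _).symm
  · rw [Category.assoc, show incl q ≫ pullback.snd q (algSpec K[ε]) = q ≫ _ from pullback.lift_snd _ _ _,
      ← Category.assoc, pullback.condition]
    refine Eq.trans ?_ (pullback.lift_snd _ _ _).symm
    exact congrArg (· ≫ _) ((congrArg (pullback.snd q (algSpec (K := K) K) ≫ ·)
      (Spec.map_id (CommRingCat.of K))).trans (Category.comp_id _))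

variable [PicGrp.Laws.{u}]

variable (φ) in
/-- The tangent vector of a class. -/
def tanPt (R : Res (prj q)) (x : CohTop.H (oSh Y) 1) : O (K := K) K[ε] ⟶ P :=
  φ (O (K := K) K[ε]) (Additive.toMul (epsCls q R x) : PicLoc.PicSet (bc q K[ε])).1

variable [IsAlgClosed K]

include hP in
theorem om_tanPt (R : Res (prj q)) (x : CohTop.H (oSh Y) 1) :
    om (TrivSqZeroExt.fstHom K K K) ≫ tanPt q φ R x = origin q P φ := by
  have h1 := congrArg Subtype.val (pullHom_incl_epsCls q R (PicGrp.Laws.pullMul _) x)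
  rw [PicGrp.one_val] at h1
  refine (hP.natural _ _ (om (TrivSqZeroExt.fstHom K K K)) _ (Additive.toMul (epsCls q R x) : PicLoc.PicSet _).2).symm.trans ?_
  refine congrArg (φ (O (K := K) K)) ?_
  rw [XTmap_om, ← incl_eq]
  refine (PicLoc.pullCl_comp _ _ _).trans ((congrArg _ h1).trans (pullCl_one _))

include hP in
theorem tanPt_injective (R : Res (prj q)) : Function.Injective (tanPt q φ R) := fun x y h => by
  refine epsCls_injective q R (Additive.toMul.injective (Subtype.ext ?_))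
  exact eq_of_phi_eq q hP (T := O (K := K) K[ε]) (fun U hU => exists_section_trivSq (K := K) K U hU)
    (c := (Additive.toMul (epsCls q R x) : PicLoc.PicSet (bc q K[ε])).1)
    (c' := (Additive.toMul (epsCls q R y) : PicLoc.PicSet (bc q K[ε])).1)
    (Additive.toMul (epsCls q R x) : PicLoc.PicSet (bc q K[ε])).2
    (Additive.toMul (epsCls q R y) : PicLoc.PicSet (bc q K[ε])).2 h

include hP in
theorem exists_tanPt (R : Res (prj q)) (g : O (K := K) K[ε] ⟶ P)
    (hg : om (TrivSqZeroExt.fstHom K K K) ≫ g = origin q P φ) : ∃ x, tanPt q φ R x = g := by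
  obtain ⟨c, hc, hcg⟩ := exists_cl q hP (fun U hU => exists_section_trivSq (K := K) K U hU) g
  have h : PicF.pullCl (PicF.XTmap q (om (TrivSqZeroExt.fstHom K K K))) c =
      PicF.cl (Coh.structureModule _) :=
    eq_of_phi_eq q hP (fun U hU => exists_section_field U hU) (PicLoc.isInvertibleCl_pullCl _ hc)
      (isInvertibleCl_one _) (by rw [hP.natural _ _ _ c hc, hcg, hg]; rfl)
  let c' : PicLoc.PicSet (bc q K[ε]) := ⟨c, hc⟩
  have h' : PicGrp.pullHom (incl q) (PicGrp.Laws.pullMul _) c' = 1 := by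
    refine Subtype.ext ?_
    rw [PicGrp.one_val]
    show PicF.pullCl (incl q) c = _
    rw [XTmap_om, ← incl_eq, PicLoc.pullCl_comp] at h
    let j : Y ⟶ bc q K := pullback.lift (𝟙 Y) q (by
      rw [Category.id_comp, show algSpec (K := K) K = 𝟙 _ from Spec.map_id _, Category.comp_id])
    have h2 := congrArg (PicF.pullCl j) h
    rw [← PicLoc.pullCl_comp, show j ≫ pullback.fst q (algSpec (K := K) K) = 𝟙 Y from pullback.lift_fst _ _ _,
      PicLoc.pullCl_id] at h2
    exact h2.trans (pullCl_one _)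
  obtain ⟨x, hx⟩ := exists_epsCls q R (PicGrp.Laws.pullMul _) c' h'
  exact ⟨x, by rw [← hcg]; exact congrArg (fun z : Additive (PicLoc.PicSet _) => φ (O (K := K) K[ε]) (Additive.toMul z).1) hx⟩

include hP in
theorem om_smul_tanPt [Y.Over (Spec (CommRingCat.of K))] (hq : Y ↘ Spec (CommRingCat.of K) = q)
    (R : Res (prj q)) (a : K) (x : Coh.HH Y (Coh.structureModule Y) 1) :
    om (TrivSqZeroExt.map (a • LinearMap.id : K →ₗ[K] K)) ≫ tanPt q φ R x = tanPt q φ R (a • x) := by
  let ψ : K[ε] →ₐ[K] K[ε] := TrivSqZeroExt.map (a • LinearMap.id : K →ₗ[K] K)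
  have hψ : ψ (ε : K[ε]) = algebraMap K K[ε] a * ε := by
    show TrivSqZeroExt.map _ (TrivSqZeroExt.inr 1) = _
    rw [TrivSqZeroExt.map_inr, TrivSqZeroExt.algebraMap_eq_inl, DualNumber.eps, TrivSqZeroExt.inl_mul_inr]
    simp
  have hsq : gfun q K[ε] (ψ ε) * gfun q K[ε] (ψ ε) = 0 :=
    gfun_mul_self q (by rw [← map_mul, DualNumber.eps_mul_eps, map_zero])
  have h1 := cls_pullback (prj q) (epsFun_sq q) (bcMap_fst q ψ) R R (PicGrp.Laws.pullMul _) hsq
    (gfun_bcMap q ψ ε) x
  have h2 : epsCls q R (Coh.toGlobal q a • x) = cls (prj q) hsq R x :=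
    cls_smul (prj q) (epsFun_sq q) R (Coh.toGlobal q a) hsq (by rw [hψ, map_mul, gfun_algebraMap]) x
  refine (hP.natural _ _ (om ψ) _ (Additive.toMul (epsCls q R x) : PicLoc.PicSet _).2).symm.trans ?_
  refine congrArg (φ (O (K := K) K[ε])) ?_
  have h3 : (a • x : Coh.HH Y (Coh.structureModule Y) 1) = Coh.toGlobal q a • x := by
    rw [← hq]; rfl
  rw [h3, XTmap_om, h2, h1]
  rfl

include hP in
theorem exists_add_tanPt (R : Res (prj q)) (x₁ x₂ : CohTop.H (oSh Y) 1) :
    ∃ G : O (K := K) (TrivSqZeroExt K (K × K)) ⟶ P,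
      om (TrivSqZeroExt.fstHom K K (K × K)) ≫ G = origin q P φ ∧
      om (TrivSqZeroExt.map (LinearMap.fst K K K)) ≫ G = tanPt q φ R x₁ ∧
      om (TrivSqZeroExt.map (LinearMap.snd K K K)) ≫ G = tanPt q φ R x₂ ∧
      om (TrivSqZeroExt.map (LinearMap.fst K K K + LinearMap.snd K K K)) ≫ G = tanPt q φ R (x₁ + x₂) := by
  let A := TrivSqZeroExt K (K × K)
  obtain ⟨R₂⟩ := exists_res (pullback.fst q (algSpec (K := K) A))
  obtain ⟨R₀⟩ := exists_res (pullback.fst q (algSpec (K := K) K))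
  have ht : ∀ m : K × K, gfun q A (TrivSqZeroExt.inr m) * gfun q A (TrivSqZeroExt.inr m) = 0 := fun m =>
    gfun_mul_self q (TrivSqZeroExt.inr_mul_inr _ _ _)
  let c : PicLoc.PicSet (bc q A) :=
    Additive.toMul (cls _ (ht (1, 0)) R₂ x₁ + cls _ (ht (0, 1)) R₂ x₂)
  refine ⟨φ (O (K := K) A) c.1, ?_⟩
  have key : ∀ {A' : Type u} [CommRing A'] [Algebra K A'] (ψ : A →ₐ[K] A')
      (R' : Res (pullback.fst q (algSpec (K := K) A')))
      {a b : Γ(bc q A', ⊤)} (ha : a * a = 0) (hb : b * b = 0),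
      gfun q A' (ψ (TrivSqZeroExt.inr (1, 0))) = a → gfun q A' (ψ (TrivSqZeroExt.inr (0, 1))) = b →
      om ψ ≫ φ (O (K := K) A) c.1 =
        φ (O (K := K) A') (Additive.toMul (cls _ ha R' x₁ + cls _ hb R' x₂) : PicLoc.PicSet (bc q A')).1 := by
    intro A' _ _ ψ R' a b ha hb haa hbb
    refine (hP.natural _ _ (om ψ) _ c.2).symm.trans (congrArg (φ (O (K := K) A')) ?_)
    rw [XTmap_om]
    have h1 := cls_pullback _ (ht (1, 0)) (bcMap_fst q ψ) R₂ R' (PicGrp.Laws.pullMul _) ha
      ((gfun_bcMap q ψ _).trans haa) x₁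
    have h2 := cls_pullback _ (ht (0, 1)) (bcMap_fst q ψ) R₂ R' (PicGrp.Laws.pullMul _) hb
      ((gfun_bcMap q ψ _).trans hbb) x₂
    rw [h1, h2]
    exact congrArg Subtype.val (map_mul (PicGrp.pullHom (bcMap q ψ) (PicGrp.Laws.pullMul _)) _ _)
  have heps : ∀ l : K × K →ₗ[K] K, ∀ m, gfun q K[ε] (TrivSqZeroExt.map l (TrivSqZeroExt.inr m)) =
      gfun q K[ε] (TrivSqZeroExt.inr (l m)) := fun l m => by rw [TrivSqZeroExt.map_inr]
  have h0 : gfun q K[ε] (TrivSqZeroExt.inr 0) = 0 := by rw [TrivSqZeroExt.inr_zero, map_zero]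
  refine ⟨?_, ?_, ?_, ?_⟩
  · rw [key (TrivSqZeroExt.fstHom K K (K × K)) R₀ (mul_zero 0) (mul_zero 0)
      ((congrArg _ (show TrivSqZeroExt.fstHom K K (K × K) (TrivSqZeroExt.inr (1, 0)) = 0 from rfl)).trans (map_zero _)) ((congrArg _ (show TrivSqZeroExt.fstHom K K (K × K) (TrivSqZeroExt.inr (0, 1)) = 0 from rfl)).trans (map_zero _)), cls_zero, cls_zero, add_zero]
    refine congrArg (φ (O (K := K) K)) ?_
    exact PicGrp.one_val
  · rw [key (TrivSqZeroExt.map (LinearMap.fst K K K)) R (epsFun_sq q) (mul_zero 0)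
      ((heps _ _).trans rfl) ((heps _ _).trans h0), cls_zero, add_zero]
    rfl
  · rw [key (TrivSqZeroExt.map (LinearMap.snd K K K)) R (mul_zero 0) (epsFun_sq q)
      ((heps _ _).trans h0) ((heps _ _).trans rfl), cls_zero, zero_add]
    rfl
  · rw [key (TrivSqZeroExt.map (LinearMap.fst K K K + LinearMap.snd K K K)) R (epsFun_sq q) (epsFun_sq q)
      ((heps _ _).trans (by simp)) ((heps _ _).trans (by simp))]
    exact congrArg (fun z : Additive (PicLoc.PicSet _) => φ (O (K := K) K[ε]) (Additive.toMul z).1)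
      (map_add (epsCls q R) x₁ x₂).symm

end Groth.Agent.PicTangent
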