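import Groth.Agent.PicTangent.OnePlus
import Groth.Agent.UnitsLib.Dual
import Mathlib.AlgebraicGeometry.Morphisms.Flat
import Mathlib.Algebra.DualNumber

/-!
# The first order thickening `Y[ε]`
-/

universe u

open CategoryTheory CategoryTheory.Limits AlgebraicGeometry Opposite TopologicalSpace DualNumber

noncomputable section

set_option autoImplicit false
set_option maxHeartbeats 400000
set_option synthInstance.maxHeartbeats 100000
set_option backward.isDefEq.respectTransparency false
set_option backward.isDefEq.respectTransparency.types false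

namespace Groth.Agent.PicTangent

open AModX PicH1

variable {K : Type u} [Field K] {Y : Scheme.{u}} (q : Y ⟶ Spec (CommRingCat.of K))

/-- The scalars in an algebra. -/
abbrev algSpec (A : Type u) [CommRing A] [Algebra K A] : Spec (CommRingCat.of A) ⟶ Spec (CommRingCat.of K) :=
  Spec.map (CommRingCat.ofHom (algebraMap K A))

/-- Base change of `Y`. -/
abbrev bc (A : Type u) [CommRing A] [Algebra K A] : Scheme.{u} := pullback q (algSpec A)

/-- An element of the algebra as a global function. -/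
def gfun (A : Type u) [CommRing A] [Algebra K A] : A →+* Γ(bc q A, ⊤) :=
  ((Scheme.ΓSpecIso (CommRingCat.of A)).inv ≫ (pullback.snd q (algSpec A)).appTop).hom

theorem gfun_mul_self {A : Type u} [CommRing A] [Algebra K A] {t : A} (ht : t * t = 0) :
    gfun q A t * gfun q A t = 0 := by rw [← map_mul, ht, map_zero]

theorem gfun_algebraMap (A : Type u) [CommRing A] [Algebra K A] (c : K) :
    gfun q A (algebraMap K A c) = (pullback.fst q (algSpec A)).appTop (Coh.toGlobal q c) := by
  have h1 : CommRingCat.ofHom (algebraMap K A) ≫ (Scheme.ΓSpecIso (CommRingCat.of A)).inv =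
      (Scheme.ΓSpecIso (CommRingCat.of K)).inv ≫ (algSpec A).appTop :=
    Scheme.ΓSpecIso_inv_naturality _
  have h2 : (pullback.fst q (algSpec A) ≫ q).appTop = (pullback.snd q (algSpec A) ≫ algSpec A).appTop := by
    rw [pullback.condition]
  simp only [Scheme.Hom.comp_appTop] at h2
  have h3 := ConcreteCategory.congr_hom h1 c
  have h4 := ConcreteCategory.congr_hom h2 ((Scheme.ΓSpecIso (CommRingCat.of K)).inv c)
  show (pullback.snd q (algSpec A)).appTop ((Scheme.ΓSpecIso (CommRingCat.of A)).inv (algebraMap K A c)) = _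
  exact (congrArg (pullback.snd q (algSpec A)).appTop.hom h3).trans h4.symm

/-- The morphism of base changes induced by a map of algebras. -/
def bcMap {A A' : Type u} [CommRing A] [Algebra K A] [CommRing A'] [Algebra K A'] (φ : A →ₐ[K] A') :
    bc q A' ⟶ bc q A :=
  pullback.lift (pullback.fst q (algSpec A')) (pullback.snd q (algSpec A') ≫ Spec.map (CommRingCat.ofHom φ.toRingHom))
    (by rw [pullback.condition, Category.assoc, ← Spec.map_comp, ← CommRingCat.ofHom_comp,
      show φ.toRingHom.comp (algebraMap K A) = algebraMap K A' from φ.comp_algebraMap])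

theorem bcMap_fst {A A' : Type u} [CommRing A] [Algebra K A] [CommRing A'] [Algebra K A'] (φ : A →ₐ[K] A') :
    bcMap q φ ≫ pullback.fst q (algSpec A) = pullback.fst q (algSpec A') := pullback.lift_fst _ _ _

theorem gfun_bcMap {A A' : Type u} [CommRing A] [Algebra K A] [CommRing A'] [Algebra K A'] (φ : A →ₐ[K] A')
    (a : A) : (bcMap q φ).appTop (gfun q A a) = gfun q A' (φ a) := by
  have h1 := ConcreteCategory.congr_hom (Scheme.ΓSpecIso_inv_naturality (CommRingCat.ofHom φ.toRingHom)) a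
  have h2 : (bcMap q φ ≫ pullback.snd q (algSpec A)).appTop =
      (pullback.snd q (algSpec A') ≫ Spec.map (CommRingCat.ofHom φ.toRingHom)).appTop := by
    rw [show bcMap q φ ≫ pullback.snd q (algSpec A) =
      pullback.snd q (algSpec A') ≫ Spec.map (CommRingCat.ofHom φ.toRingHom) from pullback.lift_snd _ _ _]
  simp only [Scheme.Hom.comp_appTop] at h2
  have h3 := ConcreteCategory.congr_hom h2 ((Scheme.ΓSpecIso (CommRingCat.of A)).inv a)
  exact h3.trans (congrArg (pullback.snd q (algSpec A')).appTop.hom h1).symm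

/-- The projection from `Y[ε]`. -/
abbrev prj : bc q K[ε] ⟶ Y := pullback.fst q (algSpec K[ε])

theorem algSpec_fst : Spec.map (CommRingCat.ofHom (TrivSqZeroExt.fstHom K K K).toRingHom) ≫ algSpec K[ε] =
    𝟙 (Spec (CommRingCat.of K)) := by
  rw [← Spec.map_comp, ← Spec.map_id]
  congr 1

/-- The closed fibre of `Y[ε]`. -/
def incl : Y ⟶ bc q K[ε] :=
  pullback.lift (𝟙 Y) (q ≫ Spec.map (CommRingCat.ofHom (TrivSqZeroExt.fstHom K K K).toRingHom))
    (by rw [Category.id_comp, Category.assoc, algSpec_fst, Category.comp_id])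

theorem incl_prj : incl q ≫ prj q = 𝟙 Y := pullback.lift_fst _ _ _

theorem incl_surjective : Function.Surjective (incl q) := by
  have hsq : IsPullback (incl q) q (pullback.snd q (algSpec K[ε]))
      (Spec.map (CommRingCat.ofHom (TrivSqZeroExt.fstHom K K K).toRingHom)) := by
    refine (IsPullback.of_bot (h₁₁ := q) ?_ ?_ (IsPullback.of_hasPullback q (algSpec K[ε])).flip).flip
    · rw [incl_prj, algSpec_fst]
      exact IsPullback.of_vert_isIso ⟨by simp⟩
    · exact (pullback.lift_snd _ _ _).symm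
  have hs : Surjective (Spec.map (CommRingCat.ofHom (TrivSqZeroExt.fstHom K K K).toRingHom)) := ⟨fun y => by
    have hg : Function.Surjective (TrivSqZeroExt.fstHom K K K).toRingHom := fun a => ⟨TrivSqZeroExt.inl a, rfl⟩
    have : y ∈ Set.range (PrimeSpectrum.comap (TrivSqZeroExt.fstHom K K K).toRingHom) := by
      rw [range_comap_of_surjective _ _ hg]
      intro x hx
      exact nilradical_le_prime y.asIdeal (mem_nilradical.2 (UnitsLib.dual_nil x hx))
    exact this⟩
  have := MorphismProperty.of_isPullback (P := @Surjective) hsq.flip hs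
  exact this.surj

theorem prj_surjective : Function.Surjective (prj q) := fun y => ⟨incl q y, by
  rw [← Scheme.Hom.comp_apply, incl_prj]; rfl⟩

theorem prj_opens (W : (bc q K[ε]).Opens) : ∃ V : Y.Opens, (prj q) ⁻¹ᵁ V = W := by
  refine ⟨incl q ⁻¹ᵁ W, Opens.ext (Set.ext fun z => ?_)⟩
  obtain ⟨y, rfl⟩ := incl_surjective q z
  show incl q (prj q (incl q y)) ∈ W ↔ incl q y ∈ W
  rw [show prj q (incl q y) = y from by rw [← Scheme.Hom.comp_apply, incl_prj]; rfl]

theorem gfun_incl : (incl q).appTop (gfun q K[ε] ε) = 0 := by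
  let g := CommRingCat.ofHom (TrivSqZeroExt.fstHom K K K).toRingHom
  have h1 := ConcreteCategory.congr_hom (Scheme.ΓSpecIso_inv_naturality g) (ε : K[ε])
  have h2 : (incl q ≫ pullback.snd q (algSpec K[ε])).appTop = (q ≫ Spec.map g).appTop := by
    rw [show incl q ≫ pullback.snd q (algSpec K[ε]) = q ≫ Spec.map g from pullback.lift_snd _ _ _]
  simp only [Scheme.Hom.comp_appTop] at h2
  refine (ConcreteCategory.congr_hom h2 ((Scheme.ΓSpecIso (CommRingCat.of K[ε])).inv (ε : K[ε]))).trans ?_
  refine (congrArg q.appTop.hom h1.symm).trans ?_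
  show q.appTop ((Scheme.ΓSpecIso (CommRingCat.of K)).inv (TrivSqZeroExt.fst (ε : K[ε]))) = 0
  rw [DualNumber.fst_eps, map_zero, map_zero]

/-- The function `ε`. -/
abbrev epsFun : Γ(bc q K[ε], ⊤) := gfun q K[ε] ε

theorem epsFun_sq : epsFun q * epsFun q = 0 := gfun_mul_self q DualNumber.eps_mul_eps

theorem exists_split_affine {V : Y.Opens} (hV : IsAffineOpen V) (x : Γ(bc q K[ε], prj q ⁻¹ᵁ V)) :
    ∃ a b : Γ(Y, V), x = (prj q).app V a + tmulVal (prj q) (epsFun q) b := by
  have H := IsPullback.of_hasPullback q (algSpec K[ε])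
  have hUY : prj q ⁻¹ᵁ V = prj q ⁻¹ᵁ V ⊓ pullback.snd q (algSpec K[ε]) ⁻¹ᵁ ⊤ := by simp
  have hiso := isIso_pushoutSection_of_isAffineOpen H (US := ⊤) (UT := ⊤) (UX := V) le_top le_top hUY
    (isAffineOpen_top _) (isAffineOpen_top _) hV
  have hpo := (isIso_pushoutSection_iff ..).1 hiso
  let str : K →+* Γ(Y, V) := (resR (le_top : V ≤ ⊤)).comp (Coh.toGlobal q)
  let τ := epsFun q
  let ψ : TrivSqZeroExt Γ(Y, V) Γ(Y, V) →+* Γ(bc q K[ε], prj q ⁻¹ᵁ V) :=
    RingHom.mk' { toFun := fun z => (prj q).app V z.fst + tmulVal (prj q) τ z.snd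
                  map_one' := by simp [tmulVal]
                  map_mul' := fun z w => by
                    have hsq : resR (le_top : prj q ⁻¹ᵁ V ≤ ⊤) τ * resR (le_top : prj q ⁻¹ᵁ V ≤ ⊤) τ = 0 := by
                      rw [← map_mul, epsFun_sq, map_zero]
                    simp only [TrivSqZeroExt.fst_mul, TrivSqZeroExt.snd_mul, smul_eq_mul,
                      MulOpposite.smul_eq_mul_unop, MulOpposite.unop_op, tmulVal, map_mul, map_add]
                    linear_combination -((prj q).app V z.snd * (prj q).app V w.snd) * hsq }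
      (fun z w => by
        simp only [MonoidHom.coe_mk, OneHom.coe_mk, TrivSqZeroExt.fst_add, TrivSqZeroExt.snd_add, tmulVal,
          map_add]
        ring)
  let inlA : Γ(Y, V) →+* TrivSqZeroExt Γ(Y, V) Γ(Y, V) := TrivSqZeroExt.inlHom _ _
  let inrA : K[ε] →+* TrivSqZeroExt Γ(Y, V) Γ(Y, V) :=
    RingHom.mk' { toFun := fun z => TrivSqZeroExt.inl (str z.fst) + TrivSqZeroExt.inr (str z.snd)
                  map_one' := by simp
                  map_mul' := fun z w => by
                    ext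
                    · simp
                    · simp [mul_comm] }
      (fun z w => by ext <;> simp)
  let uT : Γ(Spec (CommRingCat.of K[ε]), ⊤) →+* TrivSqZeroExt Γ(Y, V) Γ(Y, V) :=
    inrA.comp (Scheme.ΓSpecIso (CommRingCat.of K[ε])).hom.hom
  have hw : q.appLE ⊤ V le_top ≫ CommRingCat.ofHom inlA =
      (algSpec K[ε]).appLE ⊤ ⊤ le_top ≫ CommRingCat.ofHom uT := by
    refine CommRingCat.hom_ext (RingHom.ext fun z => ?_)
    obtain ⟨c, rfl⟩ := (ConcreteCategory.bijective_of_isIso (Scheme.ΓSpecIso (CommRingCat.of K)).inv).2 z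
    show inlA (q.appLE ⊤ V le_top ((Scheme.ΓSpecIso (CommRingCat.of K)).inv c)) =
      inrA ((Scheme.ΓSpecIso (CommRingCat.of K[ε])).hom
        ((algSpec K[ε]).appLE ⊤ ⊤ le_top ((Scheme.ΓSpecIso (CommRingCat.of K)).inv c)))
    have h1 := ConcreteCategory.congr_hom
      (Scheme.ΓSpecIso_inv_naturality (CommRingCat.ofHom (algebraMap K K[ε]))) c
    have h2 : (algSpec (K := K) K[ε]).appLE ⊤ ⊤ le_top = (algSpec (K := K) K[ε]).appTop := (Scheme.Hom.app_eq_appLE _).symm
    rw [h2, ← show _ = (algSpec K[ε]).appTop ((Scheme.ΓSpecIso (CommRingCat.of K)).inv c) from h1]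
    show inlA (str c) = inrA (((Scheme.ΓSpecIso (CommRingCat.of K[ε])).inv ≫
      (Scheme.ΓSpecIso (CommRingCat.of K[ε])).hom) (algebraMap K K[ε] c))
    rw [Iso.inv_hom_id]
    show TrivSqZeroExt.inl (str c) = TrivSqZeroExt.inl (str c) + TrivSqZeroExt.inr (str 0)
    rw [map_zero, TrivSqZeroExt.inr_zero, add_zero]
  let θ := hpo.desc (CommRingCat.ofHom inlA) (CommRingCat.ofHom uT) hw
  have hid : θ ≫ CommRingCat.ofHom ψ = 𝟙 _ := by
    apply hpo.hom_ext
    · rw [hpo.inl_desc_assoc, Category.comp_id]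
      refine CommRingCat.hom_ext (RingHom.ext fun a => ?_)
      show (prj q).app V a + tmulVal (prj q) τ 0 = (prj q).appLE V _ _ a
      rw [tmulVal, map_zero, mul_zero, add_zero, Scheme.Hom.app_eq_appLE]
    · rw [hpo.inr_desc_assoc, Category.comp_id]
      refine CommRingCat.hom_ext (RingHom.ext fun z => ?_)
      obtain ⟨w, rfl⟩ := (ConcreteCategory.bijective_of_isIso (Scheme.ΓSpecIso (CommRingCat.of K[ε])).inv).2 z
      have hgap : ∀ v : K[ε], (pullback.snd q (algSpec K[ε])).appLE ⊤ (prj q ⁻¹ᵁ V) le_top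
          ((Scheme.ΓSpecIso (CommRingCat.of K[ε])).inv v) = resR (le_top : prj q ⁻¹ᵁ V ≤ ⊤) (gfun q K[ε] v) :=
        fun v => rfl
      show ψ (inrA (((Scheme.ΓSpecIso (CommRingCat.of K[ε])).inv ≫
        (Scheme.ΓSpecIso (CommRingCat.of K[ε])).hom) w)) = _
      rw [Iso.inv_hom_id]
      refine Eq.trans ?_ (hgap w).symm
      show ψ (inrA w) = _
      have hc : ∀ c : K, (prj q).app V (str c) = resR (le_top : prj q ⁻¹ᵁ V ≤ ⊤) (gfun q K[ε] (algebraMap K K[ε] c)) :=
        fun c => by
          rw [gfun_algebraMap]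
          exact app_resR (prj q) (le_top : V ≤ ⊤) (Coh.toGlobal q c)
      have hw2 : w = algebraMap K K[ε] w.fst + ε * algebraMap K K[ε] w.snd := by
        ext <;> simp [TrivSqZeroExt.algebraMap_eq_inl]
      conv_rhs => rw [hw2, map_add, map_mul, map_add, map_mul, ← hc, ← hc]
      show (prj q).app V (inrA w).fst + tmulVal (prj q) τ (inrA w).snd = _
      have e1 : (inrA w).fst = str w.fst := by
        show TrivSqZeroExt.fst (TrivSqZeroExt.inl (str w.fst) + TrivSqZeroExt.inr (str w.snd)) = _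
        rw [TrivSqZeroExt.fst_add, TrivSqZeroExt.fst_inl, TrivSqZeroExt.fst_inr, add_zero]
      have e2 : (inrA w).snd = str w.snd := by
        show TrivSqZeroExt.snd (TrivSqZeroExt.inl (str w.fst) + TrivSqZeroExt.inr (str w.snd)) = _
        rw [TrivSqZeroExt.snd_add, TrivSqZeroExt.snd_inl, TrivSqZeroExt.snd_inr, zero_add]
      rw [e1, e2]
      rfl
  let z := θ x
  exact ⟨z.fst, z.snd, (ConcreteCategory.congr_hom hid x).symm⟩

theorem tmulVal_injective {V : Y.Opens} (hV : IsAffineOpen V) (b : Γ(Y, V))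
    (hb : tmulVal (prj q) (epsFun q) b = 0) : b = 0 := by
  have H := IsPullback.of_hasPullback q (algSpec K[ε])
  have hUY : prj q ⁻¹ᵁ V = prj q ⁻¹ᵁ V ⊓ pullback.snd q (algSpec K[ε]) ⁻¹ᵁ ⊤ := by simp
  have hiso := isIso_pushoutSection_of_isAffineOpen H (US := ⊤) (UT := ⊤) (UX := V) le_top le_top hUY
    (isAffineOpen_top _) (isAffineOpen_top _) hV
  have hpo := (isIso_pushoutSection_iff ..).1 hiso
  let str : K →+* Γ(Y, V) := (resR (le_top : V ≤ ⊤)).comp (Coh.toGlobal q)
  let inrA : K[ε] →+* TrivSqZeroExt Γ(Y, V) Γ(Y, V) :=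
    RingHom.mk' { toFun := fun z => TrivSqZeroExt.inl (str z.fst) + TrivSqZeroExt.inr (str z.snd)
                  map_one' := by simp
                  map_mul' := fun z w => by
                    ext
                    · simp
                    · simp [mul_comm] }
      (fun z w => by ext <;> simp)
  let uT : Γ(Spec (CommRingCat.of K[ε]), ⊤) →+* TrivSqZeroExt Γ(Y, V) Γ(Y, V) :=
    inrA.comp (Scheme.ΓSpecIso (CommRingCat.of K[ε])).hom.hom
  have hw : q.appLE ⊤ V le_top ≫ CommRingCat.ofHom (TrivSqZeroExt.inlHom Γ(Y, V) Γ(Y, V)) =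
      (algSpec K[ε]).appLE ⊤ ⊤ le_top ≫ CommRingCat.ofHom uT := by
    refine CommRingCat.hom_ext (RingHom.ext fun z => ?_)
    obtain ⟨c, rfl⟩ := (ConcreteCategory.bijective_of_isIso (Scheme.ΓSpecIso (CommRingCat.of K)).inv).2 z
    have h1 := ConcreteCategory.congr_hom
      (Scheme.ΓSpecIso_inv_naturality (CommRingCat.ofHom (algebraMap K K[ε]))) c
    have h2 : (algSpec (K := K) K[ε]).appLE ⊤ ⊤ le_top = (algSpec (K := K) K[ε]).appTop := (Scheme.Hom.app_eq_appLE _).symm
    show TrivSqZeroExt.inl (str c) = inrA ((Scheme.ΓSpecIso (CommRingCat.of K[ε])).hom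
      ((algSpec K[ε]).appLE ⊤ ⊤ le_top ((Scheme.ΓSpecIso (CommRingCat.of K)).inv c)))
    rw [h2, ← show _ = (algSpec K[ε]).appTop ((Scheme.ΓSpecIso (CommRingCat.of K)).inv c) from h1]
    show TrivSqZeroExt.inl (str c) = inrA (((Scheme.ΓSpecIso (CommRingCat.of K[ε])).inv ≫
      (Scheme.ΓSpecIso (CommRingCat.of K[ε])).hom) (algebraMap K K[ε] c))
    rw [Iso.inv_hom_id]
    show TrivSqZeroExt.inl (str c) = TrivSqZeroExt.inl (str c) + TrivSqZeroExt.inr (str 0)
    rw [map_zero, TrivSqZeroExt.inr_zero, add_zero]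
  let θ := hpo.desc (CommRingCat.ofHom (TrivSqZeroExt.inlHom Γ(Y, V) Γ(Y, V))) (CommRingCat.ofHom uT) hw
  have h1 : θ ((prj q).app V b) = TrivSqZeroExt.inl b := by
    rw [Scheme.Hom.app_eq_appLE]
    exact ConcreteCategory.congr_hom (hpo.inl_desc _ _ hw) b
  have h2 : θ (resR (le_top : prj q ⁻¹ᵁ V ≤ ⊤) (epsFun q)) = TrivSqZeroExt.inr 1 := by
    refine (ConcreteCategory.congr_hom (hpo.inr_desc _ _ hw)
      ((Scheme.ΓSpecIso (CommRingCat.of K[ε])).inv (ε : K[ε]))).trans ?_
    show inrA (((Scheme.ΓSpecIso (CommRingCat.of K[ε])).inv ≫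
      (Scheme.ΓSpecIso (CommRingCat.of K[ε])).hom) (ε : K[ε])) = _
    rw [Iso.inv_hom_id]
    show TrivSqZeroExt.inl (str (ε : K[ε]).fst) + TrivSqZeroExt.inr (str (ε : K[ε]).snd) = _
    simp
  have h3 := congrArg θ.hom hb
  rw [tmulVal, map_mul, map_zero] at h3
  rw [show θ.hom (resR (le_top : prj q ⁻¹ᵁ V ≤ ⊤) (epsFun q)) = _ from h2,
    show θ.hom ((prj q).app V b) = _ from h1] at h3
  simpa using congrArg TrivSqZeroExt.snd h3

end Groth.Agent.PicTangent
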