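import Groth.Agent.PicTangent.Dual

/-!
# The kernel of restriction from `Y[ε]`
-/

universe u

open CategoryTheory CategoryTheory.Limits AlgebraicGeometry Opposite TopologicalSpace DualNumber

noncomputable section

set_option autoImplicit false
set_option maxHeartbeats 400000
set_option synthInstance.maxHeartbeats 100000
set_option backward.isDefEq.respectTransparency false
set_option backward.isDefEq.respectTransparency.types false

namespace Groth.Agent.PicTangent

open AModX PicH1

variable {K : Type u} [Field K] {Y : Scheme.{u}} (q : Y ⟶ Spec (CommRingCat.of K))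

/-- `a ↦ 1 + ε a`. -/
abbrev epsPlus : oSh Y ⟶ uSh (prj q) := onePlus (prj q) (epsFun_sq q)

/-- Restriction to the closed fibre. -/
abbrev toFibre : uSh (prj q) ⟶ uSh (𝟙 Y) := comapOver (incl_prj q)

theorem val_toFibre {V : Y.Opens} (c : (uSh (prj q)).obj.obj (op V)) :
    val (𝟙 Y) (ap (toFibre q) V c) =
      (incl q).appLE _ _ (preimage_le (incl_prj q) V) (val (prj q) c) := val_comapOver _ _ _

theorem appLE_incl_app {V : Y.Opens} (a : Γ(Y, V)) :
    (incl q).appLE _ _ (preimage_le (incl_prj q) V) ((prj q).app V a) = a := by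
  have h : ∀ (g : Y ⟶ Y) (hg : incl q ≫ prj q = g), (incl q).appLE _ _ (preimage_le hg V) ((prj q).app V a) =
      g.app V a := by
    rintro _ rfl
    rw [Scheme.Hom.appLE, Scheme.Hom.comp_app]
    simp only [ConcreteCategory.comp_apply]
    exact ConcreteCategory.congr_hom (Y.presheaf.map_id _) _
  rw [h _ (incl_prj q)]
  rfl

theorem appLE_incl_tmul {V : Y.Opens} (b : Γ(Y, V)) :
    (incl q).appLE _ _ (preimage_le (incl_prj q) V) (tmulVal (prj q) (epsFun q) b) = 0 := by
  have h : ∀ (U : (bc q K[ε]).Opens) (W : Y.Opens) (e : W ≤ incl q ⁻¹ᵁ U),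
      (incl q).appLE U W e (resR (le_top : U ≤ ⊤) (epsFun q)) = 0 := fun U W e => by
    refine (ConcreteCategory.congr_hom (Scheme.Hom.map_appLE (incl q) e (homOfLE (le_top : U ≤ ⊤)).op) (epsFun q)).trans ?_
    show resR (le_top : W ≤ ⊤) ((incl q).appTop (epsFun q)) = 0
    rw [gfun_incl, map_zero]
  rw [tmulVal, map_mul, h, zero_mul]

theorem epsPlus_toFibre : epsPlus q ≫ toFibre q = 0 :=
  UnitsLib.shExt fun V (a : Γ(Y, V)) => val_injective (𝟙 Y) (by
    show val (𝟙 Y) (ap (toFibre q) V (ap (epsPlus q) V a)) = val (𝟙 Y) 0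
    rw [val_toFibre, val_onePlus, val_zero, map_add, map_one, appLE_incl_tmul, add_zero])

/-- The units of the base, pulled back. -/
def section' : uSh (𝟙 Y) ⟶ uSh (prj q) :=
  (idIso Y).hom ≫ UnitsSh.comap (prj q)

theorem section_toFibre : section' q ≫ toFibre q = 𝟙 _ :=
  UnitsLib.shExt fun V a => val_injective (𝟙 Y) (by
    show val (𝟙 Y) (ap (toFibre q) V (ap (section' q) V a)) = val (𝟙 Y) a
    rw [val_toFibre]
    exact appLE_incl_app q (V := V) (val (𝟙 Y) a))

/-- The sequence. -/
abbrev dualSeq : ShortComplex (CohTop.Ab Y.toTopCat) := ShortComplex.mk _ _ (epsPlus_toFibre q)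

theorem eq_zero_of_epsPlus {U : Y.Opens} (a : Γ(Y, U)) (ha : ap (epsPlus q) U a = 0) : a = 0 := by
  refine AModX.eq_of_locally (M := Coh.structureModule Y) a (0 : Γ(Y, U)) fun p hp => ?_
  obtain ⟨V, hV, hpV, hVU⟩ := exists_isAffineOpen_mem_and_subset hp
  refine ⟨V, hVU, hpV, ?_⟩
  show resR hVU a = resR hVU 0
  rw [map_zero]
  refine tmulVal_injective q hV _ ?_
  have h := congrArg (val (prj q)) ha
  rw [val_onePlus, val_zero, add_eq_left] at h
  rw [tmulVal_res, h, map_zero]

theorem dualSeq_shortExact : (dualSeq q).ShortExact := by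
  refine TopVanish.shortExact_of_local _ (fun U a ha => eq_zero_of_epsPlus q a ha)
    (fun U b hb x hx => ?_) (fun U c x hx => ⟨U, le_rfl, hx, ap (section' q) U c, ?_⟩)
  · obtain ⟨V, hV, hxV, hVU⟩ := exists_isAffineOpen_mem_and_subset hx
    refine ⟨V, hVU, hxV, ?_⟩
    let b' := rs (uSh (prj q)) hVU b
    obtain ⟨a, a', h⟩ := exists_split_affine q hV (val (prj q) b')
    have h1 : a = 1 := by
      have h0 : ap (toFibre q) V b' = 0 := by
        rw [ap_rs]; exact (congrArg _ hb).trans (map_zero _)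
      have h2 := congrArg (val (𝟙 Y)) h0
      rw [val_toFibre, h, map_add, appLE_incl_app, appLE_incl_tmul, add_zero, val_zero] at h2
      exact h2
    refine ⟨a', val_injective (prj q) ?_⟩
    refine (val_onePlus (prj q) (epsFun_sq q) a').trans ?_
    show _ = val (prj q) b'
    rw [h, h1, map_one]
  · have := congrArg (fun φ : uSh (𝟙 Y) ⟶ uSh (𝟙 Y) => ap φ U c) (section_toFibre q)
    refine this.trans ?_
    exact (rs_self c).symm

/-- A chosen resolution. -/
def res (f : bc q K[ε] ⟶ Y) : Res f := (exists_res f).some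

variable [PicGrp.Law (bc q K[ε])]

/-- The class of `1 + ε x`. -/
abbrev epsCls (R : Res (prj q)) : CohTop.H (oSh Y) 1 →+ Additive (PicLoc.PicSet (bc q K[ε])) :=
  cls (prj q) (epsFun_sq q) R

theorem epsCls_injective (R : Res (prj q)) : Function.Injective (epsCls q R) :=
  (picOfH_injective R).comp
    (UnitsLib.H_injective_of_section (dualSeq_shortExact q) (section' q) (section_toFibre q) 1)

theorem exists_epsCls [PicGrp.Law Y] (R : Res (prj q)) (hg : PicGrp.PullMul (incl q))
    (c : PicLoc.PicSet (bc q K[ε])) (hc : PicGrp.pullHom (incl q) hg c = 1) :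
    ∃ x, epsCls q R x = Additive.ofMul c := by
  obtain ⟨z, hz⟩ := picOfH_surjective R (prj_surjective q) (prj_opens q) (Additive.ofMul c)
  obtain ⟨R₀⟩ := exists_res (𝟙 Y)
  have h := picOfH_comapOver (incl_prj q) R R₀ hg z
  rw [hz, toMul_ofMul, hc, ofMul_one] at h
  obtain ⟨x, hx⟩ := UnitsLib.H_exact (dualSeq_shortExact q) 1 z
    ((map_eq_zero_iff _ (picOfH_injective R₀)).1 h)
  exact ⟨x, (congrArg (picOfH R) hx).trans hz⟩

theorem pullHom_incl_epsCls [PicGrp.Law Y] (R : Res (prj q)) (hg : PicGrp.PullMul (incl q))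
    (x : CohTop.H (oSh Y) 1) : PicGrp.pullHom (incl q) hg (Additive.toMul (epsCls q R x)) = 1 := by
  obtain ⟨R₀⟩ := exists_res (𝟙 Y)
  have h := picOfH_comapOver (incl_prj q) R R₀ hg (Sheaf.H.map (epsPlus q) 1 x)
  rw [← Sheaf.H.map_comp_apply, epsPlus_toFibre, Sheaf.H.map_apply, Abelian.Ext.mk₀_zero, Abelian.Ext.comp_zero,
    map_zero] at h
  exact (congrArg Additive.toMul h).symm

end Groth.Agent.PicTangent
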