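import Groth.Agent.PicH1Lib.Seq
import Groth.Agent.InvX.Pullback
import Groth.Agent.H23.PicMul

/-!
# Naturality of the comparison with Picard groups in morphisms over the base
-/

universe u

open CategoryTheory CategoryTheory.Limits AlgebraicGeometry Opposite TopologicalSpace

noncomputable section

set_option autoImplicit false
set_option maxHeartbeats 400000
set_option synthInstance.maxHeartbeats 100000
set_option backward.isDefEq.respectTransparency false
set_option backward.isDefEq.respectTransparency.types false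

namespace Groth.Agent.PicTangent

open AModX InvX PicH1

variable {Z Z' X : Scheme.{u}}

theorem preimage_le {f : Z ⟶ X} {f' : Z' ⟶ X} {h : Z' ⟶ Z} (hf : h ≫ f = f') (U : X.Opens) :
    f' ⁻¹ᵁ U ≤ h ⁻¹ᵁ (f ⁻¹ᵁ U) := by
  rw [← hf]; exact le_rfl

theorem exists_comapOver {f : Z ⟶ X} {f' : Z' ⟶ X} {h : Z' ⟶ Z} (hf : h ≫ f = f') :
    ∃ k : uSh f ⟶ uSh f', ∀ (U : X.Opens) (c : (uSh f).obj.obj (op U)),
      val f' (ap k U c) = h.appLE _ _ (preimage_le hf U) (val f c) := by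
  subst hf
  refine ⟨(CohTop.push f.base).map (UnitsSh.comap h), fun U c => ?_⟩
  show h.app (f ⁻¹ᵁ U) (val f c) = h.appLE _ _ _ (val f c)
  rw [Scheme.Hom.app_eq_appLE]

/-- The map of direct images of units induced by a morphism over the base. -/
def comapOver {f : Z ⟶ X} {f' : Z' ⟶ X} {h : Z' ⟶ Z} (hf : h ≫ f = f') : uSh f ⟶ uSh f' :=
  (exists_comapOver hf).choose

theorem val_comapOver {f : Z ⟶ X} {f' : Z' ⟶ X} {h : Z' ⟶ Z} (hf : h ≫ f = f') (U : X.Opens)
    (c : (uSh f).obj.obj (op U)) :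
    val f' (ap (comapOver hf) U c) = h.appLE _ _ (preimage_le hf U) (val f c) :=
  (exists_comapOver hf).choose_spec U c

theorem exists_triv_pullback {f : Z ⟶ X} {f' : Z' ⟶ X} {h : Z' ⟶ Z} (hf : h ≫ f = f')
    (R : Res f) (R' : Res f') (φ : R.I ⟶ R'.I) (ψ : R.Q ⟶ R'.Q)
    (hφ : R.emb ≫ φ = comapOver hf ≫ R'.emb) (hψ : R.proj ≫ ψ = φ ≫ R'.proj)
    {L : Z.Modules} {q : R.Q.obj.obj (op (⊤ : X.Opens))} (T : Triv R L q) :
    Nonempty (Triv R' ((Scheme.Modules.pullback h).obj L) (ap ψ ⊤ q)) := by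
  subst hf
  exact ⟨{
    ι := T.ι, U := T.U, cov := T.cov
    e := fun i => pullElt h (M := L) (U := f ⁻¹ᵁ T.U i) (T.e i)
    frame := fun i => isFrame_pullElt h (M := L) (U := f ⁻¹ᵁ T.U i) (T.frame i)
    s := fun i => ap φ _ (T.s i)
    lift := fun i => by
      have h1 : ap R'.proj _ (ap φ _ (T.s i)) = ap ψ _ (ap R.proj _ (T.s i)) :=
        (congrArg (fun χ : R.I ⟶ R'.Q => ap χ _ (T.s i)) hψ).symm
      rw [h1, T.lift, ap_rs]
    compat := fun i j W hi hj c hc => by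
      obtain ⟨c₀, hc₀⟩ := T.exists_diff i j W hi hj
      have hcc : ap (comapOver rfl) W c₀ = c := R'.emb_injective W (by
        rw [hc, ← ap_rs, ← ap_rs, ← map_sub, ← hc₀]
        exact (congrArg (fun χ : uSh f ⟶ R'.I => ap χ W c₀) hφ).symm)
      have hA := congrArg (((Scheme.Modules.pullbackPushforwardAdjunction h).unit.app L).app (f ⁻¹ᵁ W))
        (T.compat i j W hi hj c₀ hc₀)
      have hval : val (h ≫ f) c = h.app (f ⁻¹ᵁ W) (val f c₀) := by
        rw [← hcc, val_comapOver, Scheme.Hom.app_eq_appLE]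
        rfl
      rw [hval]
      refine Eq.trans ?_ (hA.trans ((Scheme.Modules.Hom.app_smul _ _ _).trans ?_))
      · exact (app_res ((Scheme.Modules.pullbackPushforwardAdjunction h).unit.app L) (f.preimage_mono hj) (T.e j)).symm
      · exact congrArg (fun z : Γ((Scheme.Modules.pullback h).obj L, h ⁻¹ᵁ (f ⁻¹ᵁ W)) =>
            h.app (f ⁻¹ᵁ W) (val f c₀) • z)
          (app_res ((Scheme.Modules.pullbackPushforwardAdjunction h).unit.app L) (f.preimage_mono hi) (T.e i)) }⟩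

theorem picOfH_comapOver [PicGrp.Law Z] [PicGrp.Law Z'] {f : Z ⟶ X} {f' : Z' ⟶ X} {h : Z' ⟶ Z}
    (hf : h ≫ f = f') (R : Res f) (R' : Res f') (hg : PicGrp.PullMul h) (x : CohTop.H (uSh f) 1) :
    picOfH R' (Sheaf.H.map (comapOver hf) 1 x) =
      Additive.ofMul (PicGrp.pullHom h hg (Additive.toMul (picOfH R x))) := by
  haveI := R'.inj
  haveI := R.exact.mono_f
  haveI := R.exact.epi_g
  let φ := Injective.factorThru (comapOver hf ≫ R'.emb) R.emb
  have hφ : R.emb ≫ φ = comapOver hf ≫ R'.emb := Injective.comp_factorThru _ _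
  have h0 : R.emb ≫ (φ ≫ R'.proj) = 0 := by
    rw [← Category.assoc, hφ, Category.assoc, R'.w, comp_zero]
  let ψ := R.exact.exact.desc (φ ≫ R'.proj) h0
  have hψ : R.proj ≫ ψ = φ ≫ R'.proj := R.exact.exact.g_desc _ _
  obtain ⟨q, rfl⟩ := connR_surjective R x
  let Φ : ShortComplex.mk R.emb R.proj R.w ⟶ ShortComplex.mk R'.emb R'.proj R'.w :=
    { τ₁ := comapOver hf, τ₂ := φ, τ₃ := ψ, comm₁₂ := hφ.symm, comm₂₃ := hψ.symm }
  rw [picOfH_connR, show Sheaf.H.map (comapOver hf) 1 (connR R q) = connR R' (ap ψ ⊤ q) from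
    conn_natural R.exact R'.exact Φ q, picOfH_connR]
  obtain ⟨L, ⟨T⟩⟩ := exists_triv R q
  obtain ⟨T'⟩ := exists_triv_pullback hf R R' φ ψ hφ hψ T
  rw [toPic_eq R T, toPic_eq R' T']
  rfl

end Groth.Agent.PicTangent
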