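import Groth.Agent.PicTangent.Natural

/-!
# The classes `1 + τ f` of an element of square zero
-/

universe u

open CategoryTheory CategoryTheory.Limits AlgebraicGeometry Opposite TopologicalSpace

noncomputable section

set_option autoImplicit false
set_option maxHeartbeats 400000
set_option synthInstance.maxHeartbeats 100000
set_option backward.isDefEq.respectTransparency false
set_option backward.isDefEq.respectTransparency.types false

namespace Groth.Agent.PicTangent

open AModX PicH1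

variable {Z Z' X : Scheme.{u}} (f : Z ⟶ X) (τ : Γ(Z, ⊤))

/-- The additive sheaf of functions. -/
abbrev oSh (X : Scheme.{u}) : CohTop.Ab X.toTopCat := Coh.toAb (Coh.structureModule X)

/-- The function `τ · f^# a`. -/
def tmulVal {U : X.Opens} (a : Γ(X, U)) : Γ(Z, f ⁻¹ᵁ U) := resR (le_top : f ⁻¹ᵁ U ≤ ⊤) τ * f.app U a

theorem tmulVal_add {U : X.Opens} (a b : Γ(X, U)) :
    tmulVal f τ (a + b) = tmulVal f τ a + tmulVal f τ b := by
  simp only [tmulVal, map_add, mul_add]

theorem app_resR {U V : X.Opens} (h : V ≤ U) (a : Γ(X, U)) :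
    f.app V (resR h a) = resR (f.preimage_mono h) (f.app U a) :=
  ConcreteCategory.congr_hom (f.naturality (homOfLE h).op) a

theorem tmulVal_res {U V : X.Opens} (h : V ≤ U) (a : Γ(X, U)) :
    tmulVal f τ (resR h a) = resR (f.preimage_mono h) (tmulVal f τ a) := by
  rw [tmulVal, tmulVal, map_mul, resR_resR, app_resR]

variable {τ} (hτ : τ * τ = 0)

include hτ in
theorem tmulVal_mul {U : X.Opens} (a b : Γ(X, U)) : tmulVal f τ a * tmulVal f τ b = 0 := by
  have h : resR (le_top : f ⁻¹ᵁ U ≤ ⊤) τ * resR (le_top : f ⁻¹ᵁ U ≤ ⊤) τ = 0 := by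
    rw [← map_mul, hτ, map_zero]
  rw [tmulVal, tmulVal]
  linear_combination (f.app U a * f.app U b) * h

/-- The unit `1 + τ · f^# a`. -/
def unitVal {U : X.Opens} (a : Γ(X, U)) : (Γ(Z, f ⁻¹ᵁ U))ˣ where
  val := 1 + tmulVal f τ a
  inv := 1 - tmulVal f τ a
  val_inv := by linear_combination -(tmulVal_mul f hτ a a)
  inv_val := by linear_combination -(tmulVal_mul f hτ a a)

/-- The same unit as a section. -/
def unitSec {U : X.Opens} (a : Γ(X, U)) : (uSh f).obj.obj (op U) :=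
  UnitsSh.sectOfUnit (O := Z.presheaf) (U := op (f ⁻¹ᵁ U)) (unitVal f hτ a)

theorem val_unitSec {U : X.Opens} (a : Γ(X, U)) : val f (unitSec f hτ a) = 1 + tmulVal f τ a := rfl

theorem unitSec_add {U : X.Opens} (a b : Γ(X, U)) : unitSec f hτ (a + b) = unitSec f hτ a + unitSec f hτ b :=
  val_injective f (by
    rw [val_add, val_unitSec, val_unitSec, val_unitSec, tmulVal_add]
    linear_combination -(tmulVal_mul f hτ a b))

theorem unitSec_res {U V : X.Opens} (h : V ≤ U) (a : Γ(X, U)) :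
    unitSec f hτ (resR h a) = rs (uSh f) h (unitSec f hτ a) :=
  val_injective f (by rw [val_rs, val_unitSec, val_unitSec, map_add, map_one, tmulVal_res])

/-- `a ↦ 1 + τ · f^# a`. -/
def onePlus : oSh X ⟶ uSh f :=
  ⟨{ app := fun U => AddCommGrpCat.ofHom
        (show Γ(X, U.unop) →+ (uSh f).obj.obj (op U.unop) from AddMonoidHom.mk' (unitSec f hτ) (unitSec_add f hτ))
     naturality := fun U V g => AddCommGrpCat.hom_ext (AddMonoidHom.ext fun (a : Γ(X, U.unop)) =>
       unitSec_res f hτ g.unop.le a) }⟩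

theorem val_onePlus {U : X.Opens} (a : Γ(X, U)) : val f (ap (onePlus f hτ) U a) = 1 + tmulVal f τ a := rfl

theorem onePlus_congr {τ' : Γ(Z, ⊤)} (hτ' : τ' * τ' = 0) (h : τ = τ') : onePlus f hτ = onePlus f hτ' := by
  subst h; rfl

theorem onePlus_zero : onePlus f (τ := 0) (mul_zero 0) = 0 :=
  UnitsLib.shExt fun U (a : Γ(X, U)) => val_injective f (by
    show val f (ap (onePlus f (τ := 0) (mul_zero 0)) U a) = val f 0
    rw [val_onePlus, val_zero, tmulVal, map_zero, zero_mul, add_zero])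

theorem smulAb_onePlus (r : Γ(X, ⊤)) (hr : f.appTop r * τ * (f.appTop r * τ) = 0) :
    Coh.smulAb (Coh.structureModule X) r ≫ onePlus f hτ = onePlus f hr :=
  UnitsLib.shExt fun U (a : Γ(X, U)) => val_injective f (by
    show val f (ap (onePlus f hτ) U ((Coh.smulAb (Coh.structureModule X) r).hom.app (op U) a)) =
      val f (ap (onePlus f hr) U a)
    rw [val_onePlus, Coh.smulAb_app]
    show 1 + tmulVal f τ (resR (le_top : U ≤ ⊤) r * a) = _
    rw [val_onePlus, tmulVal, tmulVal, map_mul, map_mul, app_resR]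
    show _ = 1 + resR _ (f.app ⊤ r) * _ * _
    ring)

theorem onePlus_comapOver {f' : Z' ⟶ X} {h : Z' ⟶ Z} (hf : h ≫ f = f')
    (hτ' : h.appTop τ * h.appTop τ = 0) :
    onePlus f hτ ≫ comapOver hf = onePlus f' hτ' := by
  subst hf
  refine UnitsLib.shExt fun U (a : Γ(X, U)) => val_injective (h ≫ f) ?_
  show val (h ≫ f) (ap (comapOver rfl) U (ap (onePlus f hτ) U a)) = val (h ≫ f) (ap (onePlus (h ≫ f) hτ') U a)
  rw [val_comapOver, val_onePlus, val_onePlus]
  show h.appLE (f ⁻¹ᵁ U) (h ⁻¹ᵁ (f ⁻¹ᵁ U)) le_rfl (1 + tmulVal f τ a) =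
    1 + resR (le_top : h ⁻¹ᵁ (f ⁻¹ᵁ U) ≤ ⊤) (h.app ⊤ τ) * h.app (f ⁻¹ᵁ U) (f.app U a)
  rw [← Scheme.Hom.app_eq_appLE, map_add, map_one, tmulVal, map_mul, app_resR]
  rfl

/-- The class of `1 + τ x`. -/
def cls [PicGrp.Law Z] (R : Res f) : CohTop.H (oSh X) 1 →+ Additive (PicLoc.PicSet Z) :=
  (picOfH R).comp (Sheaf.H.map (onePlus f hτ) 1)

theorem cls_pullback [PicGrp.Law Z] [PicGrp.Law Z'] {f' : Z' ⟶ X} {h : Z' ⟶ Z} (hf : h ≫ f = f')
    (R : Res f) (R' : Res f') (hg : PicGrp.PullMul h) {τ' : Γ(Z', ⊤)} (hτ' : τ' * τ' = 0)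
    (hh : h.appTop τ = τ') (x : CohTop.H (oSh X) 1) :
    cls f' hτ' R' x = Additive.ofMul (PicGrp.pullHom h hg (Additive.toMul (cls f hτ R x))) := by
  subst hh
  show picOfH R' (Sheaf.H.map (onePlus f' hτ') 1 x) = _
  rw [← onePlus_comapOver f hτ hf hτ', Sheaf.H.map_comp_apply]
  exact picOfH_comapOver hf R R' hg _

theorem cls_smul [PicGrp.Law Z] (R : Res f) (r : Coh.Γtop X) {τ' : Γ(Z, ⊤)} (hτ' : τ' * τ' = 0)
    (h : f.appTop r * τ = τ') (x : Coh.HH X (Coh.structureModule X) 1) :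
    cls f hτ R (r • x) = cls f hτ' R x := by
  subst h
  show picOfH R (Sheaf.H.map (onePlus f hτ) 1 (Sheaf.H.map (Coh.smulAb (Coh.structureModule X) r) 1 x)) = _
  exact congrArg (picOfH R) (Eq.trans (Sheaf.H.map_comp_apply _ _ _).symm
    (congrArg (fun φ => Sheaf.H.map φ 1 x) (smulAb_onePlus f hτ r hτ')))

end Groth.Agent.PicTangent
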