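import Mathlib.RingTheory.Ideal.Cotangent
import Mathlib.Algebra.TrivSqZeroExt.Basic
import Mathlib.LinearAlgebra.FreeModule.Finite.Matrix
import Mathlib.RingTheory.LocalRing.ResidueField.Basic
import Mathlib.LinearAlgebra.Dimension.Free
import Mathlib.RingTheory.Noetherian.Basic

/-!
# Tangent vectors at a rational point of a local algebra
-/

universe u

noncomputable section

set_option autoImplicit false

namespace Groth.Agent.PicTangent

open IsLocalRing

variable {k : Type u} [Field k] {R : Type u} [CommRing R] [IsLocalRing R] [Algebra k R] (χ : R →ₐ[k] k)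
  {K : Type u} [Field K] [Algebra k K]

theorem ker_eq_maximalIdeal : RingHom.ker χ.toRingHom = maximalIdeal R :=
  eq_maximalIdeal (RingHom.ker_isMaximal_of_surjective χ.toRingHom fun c => ⟨algebraMap k R c, χ.commutes c⟩)

theorem sub_mem_maximalIdeal (r : R) : r - algebraMap k R (χ r) ∈ maximalIdeal R := by
  rw [← ker_eq_maximalIdeal χ, RingHom.mem_ker]
  show χ (r - algebraMap k R (χ r)) = 0
  rw [map_sub, χ.commutes]
  exact sub_self _

theorem finrank_residue (χ : R →ₐ[k] k) :
    Module.finrank (ResidueField R) (CotangentSpace R) = Module.finrank k (CotangentSpace R) := by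
  have hsurj : ∀ z : ResidueField R, ∃ c : k, z = algebraMap R (ResidueField R) (algebraMap k R c) := fun z => by
    obtain ⟨r, rfl⟩ := IsLocalRing.residue_surjective z
    refine ⟨χ r, ?_⟩
    exact Ideal.Quotient.eq.2 (sub_mem_maximalIdeal χ r)
  let i : k →+* ResidueField R := (algebraMap R (ResidueField R)).comp (algebraMap k R)
  exact congrArg Cardinal.toNat (rank_eq_of_equiv_equiv (i : k → ResidueField R) (AddEquiv.refl (CotangentSpace R))
    ⟨i.injective, fun z => (hsurj z).imp fun c hc => hc.symm⟩ fun c x => by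
      show c • x = algebraMap R (ResidueField R) (algebraMap k R c) • x
      rw [algebraMap_smul, algebraMap_smul]).symm

section Delta

variable (M : Type u) [AddCommGroup M] [Module K M] [Module Kᵐᵒᵖ M] [IsCentralScalar K M]

/-- A homomorphism centred at the point, over the field. -/
structure IsTan (γ : R →+* TrivSqZeroExt K M) : Prop where
  fst : ∀ r, (γ r).fst = algebraMap k K (χ r)
  alg : ∀ c, γ (algebraMap k R c) = TrivSqZeroExt.inl (algebraMap k K c)

variable {χ M} {γ : R →+* TrivSqZeroExt K M}

theorem IsTan.fst_eq_zero (h : IsTan χ M γ) {r : R} (hr : r ∈ maximalIdeal R) : (γ r).fst = 0 := by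
  rw [← ker_eq_maximalIdeal χ, RingHom.mem_ker] at hr
  rw [h.fst, show χ r = 0 from hr, map_zero]

theorem IsTan.snd_sq (h : IsTan χ M γ) {r : R} (hr : r ∈ maximalIdeal R ^ 2) : (γ r).snd = 0 := by
  rw [pow_two] at hr
  refine Submodule.mul_induction_on hr (fun a ha b hb => ?_) fun a b ha hb => ?_
  · rw [map_mul, TrivSqZeroExt.snd_mul, h.fst_eq_zero ha, h.fst_eq_zero hb]
    simp
  · rw [map_add, TrivSqZeroExt.snd_add, ha, hb, add_zero]

theorem IsTan.snd_eq (h : IsTan χ M γ) {x y : maximalIdeal R}
    (e : (maximalIdeal R).toCotangent x = (maximalIdeal R).toCotangent y) : (γ x.1).snd = (γ y.1).snd := by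
  have := h.snd_sq (Ideal.toCotangent_eq _ |>.1 e)
  rwa [map_sub, TrivSqZeroExt.snd_sub, sub_eq_zero] at this

/-- The differential. -/
def delta (γ : R →+* TrivSqZeroExt K M) (z : CotangentSpace R) : M :=
  (γ ((maximalIdeal R).toCotangent_surjective z).choose.1).snd

theorem delta_toCotangent (h : IsTan χ M γ) (x : maximalIdeal R) :
    delta γ ((maximalIdeal R).toCotangent x) = (γ x.1).snd :=
  h.snd_eq ((maximalIdeal R).toCotangent_surjective _).choose_spec

theorem delta_add (h : IsTan χ M γ) (a b : CotangentSpace R) : delta γ (a + b) = delta γ a + delta γ b := by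
  obtain ⟨x, rfl⟩ := (maximalIdeal R).toCotangent_surjective a
  obtain ⟨y, rfl⟩ := (maximalIdeal R).toCotangent_surjective b
  rw [← map_add, delta_toCotangent h, delta_toCotangent h, delta_toCotangent h]
  show (γ (x.1 + y.1)).snd = _
  rw [map_add, TrivSqZeroExt.snd_add]

theorem toCotangent_smul (c : k) (x : maximalIdeal R) :
    c • (maximalIdeal R).toCotangent x = (maximalIdeal R).toCotangent (algebraMap k R c • x) := by
  rw [map_smul, algebraMap_smul]

theorem delta_smul (h : IsTan χ M γ) (c : k) (a : CotangentSpace R) :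
    delta γ (c • a) = algebraMap k K c • delta γ a := by
  obtain ⟨x, rfl⟩ := (maximalIdeal R).toCotangent_surjective a
  rw [toCotangent_smul, delta_toCotangent h, delta_toCotangent h]
  show (γ (algebraMap k R c * x.1)).snd = _
  rw [map_mul, h.alg, TrivSqZeroExt.snd_mul]
  simp

theorem eq_of_delta (h : IsTan χ M γ) {γ' : R →+* TrivSqZeroExt K M} (h' : IsTan χ M γ')
    (e : ∀ z, delta γ z = delta γ' z) : γ = γ' := by
  refine RingHom.ext fun r => ?_
  have h1 := e ((maximalIdeal R).toCotangent ⟨_, sub_mem_maximalIdeal χ r⟩)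
  rw [delta_toCotangent h, delta_toCotangent h', map_sub, map_sub, h.alg, h'.alg] at h1
  ext
  · rw [h.fst, h'.fst]
  · simpa using h1

end Delta

theorem exists_of_linear (D : CotangentSpace R →ₗ[k] K) :
    ∃ γ : R →+* TrivSqZeroExt K K, IsTan χ K γ ∧ ∀ z, delta γ z = D z := by
  let π : R → maximalIdeal R := fun r => ⟨_, sub_mem_maximalIdeal χ r⟩
  let d : R → K := fun r => D ((maximalIdeal R).toCotangent (π r))
  have hadd : ∀ a b, d (a + b) = d a + d b := fun a b => by
    show D _ = D _ + D _
    rw [← map_add, ← map_add]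
    congr 2
    exact Subtype.ext (by simp only [π, map_add, Submodule.coe_add]; ring)
  have hmul : ∀ a b, d (a * b) = algebraMap k K (χ a) * d b + algebraMap k K (χ b) * d a := fun a b => by
    show D _ = _
    have e : (maximalIdeal R).toCotangent (π (a * b)) = χ a • (maximalIdeal R).toCotangent (π b) +
        χ b • (maximalIdeal R).toCotangent (π a) := by
      rw [toCotangent_smul, toCotangent_smul, ← map_add, Ideal.toCotangent_eq]
      have := Ideal.mul_mem_mul (π a).2 (π b).2
      rw [← pow_two] at this
      convert this using 1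
      simp only [π, map_mul, Submodule.coe_add, SetLike.val_smul, smul_eq_mul]
      ring
    rw [e, map_add, map_smul, map_smul, Algebra.smul_def, Algebra.smul_def]
  have hone : d 1 = 0 := by
    show D _ = 0
    rw [show π 1 = 0 from Subtype.ext (by simp [π]), map_zero, map_zero]
  let γ : R →+* TrivSqZeroExt K K :=
    { toFun := fun r => TrivSqZeroExt.inl (algebraMap k K (χ r)) + TrivSqZeroExt.inr (d r)
      map_one' := by simp [hone]
      map_mul' := fun a b => by
        ext
        · simp
        · simp [hmul]; ring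
      map_zero' := by
        have : d 0 = 0 := by simpa using hadd 0 0
        simp [this]
      map_add' := fun a b => by
        ext <;> simp [hadd] }
  have hc : ∀ c, d (algebraMap k R c) = 0 := fun c => by
    show D _ = 0
    rw [show π (algebraMap k R c) = 0 from Subtype.ext (by simp [π]), map_zero, map_zero]
  have h : IsTan χ K γ := ⟨fun r => by simp [γ], fun c => by simp [γ, hc]⟩
  refine ⟨γ, h, fun z => ?_⟩
  obtain ⟨x, rfl⟩ := (maximalIdeal R).toCotangent_surjective z
  rw [delta_toCotangent h]
  show (TrivSqZeroExt.inl (algebraMap k K (χ x.1)) + TrivSqZeroExt.inr (d x.1)).snd = _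
  have hx : χ x.1 = 0 := RingHom.mem_ker.1 ((ker_eq_maximalIdeal χ).ge x.2)
  rw [TrivSqZeroExt.snd_add, TrivSqZeroExt.snd_inl, TrivSqZeroExt.snd_inr, zero_add]
  show D ((maximalIdeal R).toCotangent (π x.1)) = _
  rw [show π x.1 = x from Subtype.ext (by simp [π, hx])]

theorem IsTan.map {M N : Type u} [AddCommGroup M] [Module K M] [Module Kᵐᵒᵖ M] [IsCentralScalar K M]
    [AddCommGroup N] [Module K N] [Module Kᵐᵒᵖ N] [IsCentralScalar K N] {γ : R →+* TrivSqZeroExt K M}
    (h : IsTan χ M γ) (l : M →ₗ[K] N) :
    IsTan χ N ((TrivSqZeroExt.map l).toRingHom.comp γ) ∧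
      ∀ z, delta ((TrivSqZeroExt.map l).toRingHom.comp γ) z = l (delta γ z) := by
  have h' : IsTan χ N ((TrivSqZeroExt.map l).toRingHom.comp γ) := ⟨fun r => by
    show (TrivSqZeroExt.map l (γ r)).fst = _
    rw [← TrivSqZeroExt.inl_fst_add_inr_snd_eq (γ r), map_add]
    simp [h.fst], fun c => by
    show TrivSqZeroExt.map l (γ _) = _
    rw [h.alg, TrivSqZeroExt.map_inl]⟩
  refine ⟨h', fun z => ?_⟩
  obtain ⟨x, rfl⟩ := (maximalIdeal R).toCotangent_surjective z
  rw [delta_toCotangent h', delta_toCotangent h]
  show (TrivSqZeroExt.map l (γ x.1)).snd = _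
  conv_lhs => rw [← TrivSqZeroExt.inl_fst_add_inr_snd_eq (γ x.1), map_add]
  simp

/-- A parametrisation of tangent vectors computes the cotangent space. -/
theorem finrank_cotangent_eq [IsNoetherianRing R] (χ : R →ₐ[k] k) {V : Type u} [AddCommGroup V] [Module K V]
    (θ : V → R →+* TrivSqZeroExt K K) (hθ : ∀ x, IsTan χ K (θ x)) (hinj : Function.Injective θ)
    (hsurj : ∀ γ, IsTan χ K γ → ∃ x, θ x = γ)
    (hsmul : ∀ (a : K) x, θ (a • x) = (TrivSqZeroExt.map (a • LinearMap.id : K →ₗ[K] K)).toRingHom.comp (θ x))
    (hadd : ∀ x y, ∃ γ, IsTan χ (K × K) γ ∧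
      (TrivSqZeroExt.map (LinearMap.fst K K K)).toRingHom.comp γ = θ x ∧
      (TrivSqZeroExt.map (LinearMap.snd K K K)).toRingHom.comp γ = θ y ∧
      (TrivSqZeroExt.map (LinearMap.fst K K K + LinearMap.snd K K K)).toRingHom.comp γ = θ (x + y)) :
    Module.finrank (ResidueField R) (CotangentSpace R) = Module.finrank K V := by
  let L : V →ₗ[K] (CotangentSpace R →ₗ[k] K) :=
    { toFun := fun x =>
        { toFun := delta (θ x)
          map_add' := delta_add (hθ x)
          map_smul' := fun c a => by rw [delta_smul (hθ x), RingHom.id_apply, algebraMap_smul] }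
      map_add' := fun x y => LinearMap.ext fun z => by
        obtain ⟨γ, h, h1, h2, h3⟩ := hadd x y
        show delta (θ (x + y)) z = delta (θ x) z + delta (θ y) z
        rw [← h1, ← h2, ← h3, (IsTan.map χ h (LinearMap.fst K K K)).2, (IsTan.map χ h (LinearMap.snd K K K)).2,
          (IsTan.map χ h (LinearMap.fst K K K + LinearMap.snd K K K)).2]
        rfl
      map_smul' := fun a x => LinearMap.ext fun z => by
        show delta (θ (a • x)) z = a • delta (θ x) z
        rw [hsmul, (IsTan.map χ (hθ x) (a • LinearMap.id : K →ₗ[K] K)).2]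
        rfl }
  have hL : Function.Bijective L := ⟨fun x y e => hinj (eq_of_delta (hθ x) (hθ y) fun z =>
    congrArg (fun D : CotangentSpace R →ₗ[k] K => D z) e), fun D => by
      obtain ⟨γ, hγ, hD⟩ := exists_of_linear (χ := χ) D
      obtain ⟨x, rfl⟩ := hsurj γ hγ
      exact ⟨x, LinearMap.ext hD⟩⟩
  haveI : Module.Finite k (CotangentSpace R) := by
    classical
    obtain ⟨n, s, hs⟩ := Module.Finite.exists_fin (R := ResidueField R) (M := CotangentSpace R)
    refine ⟨⟨Finset.univ.image s, top_le_iff.1 fun z hzz => ?_⟩⟩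
    clear hzz
    have hz : z ∈ Submodule.span (ResidueField R) (Set.range s) := by rw [hs]; trivial
    rw [Finset.coe_image, Finset.coe_univ, Set.image_univ]
    induction hz using Submodule.span_induction with
    | mem y hy => exact Submodule.subset_span hy
    | zero => exact zero_mem _
    | add a b _ _ ha hb => exact add_mem ha hb
    | smul c a _ ha =>
      obtain ⟨r, rfl⟩ := IsLocalRing.residue_surjective c
      have : residue R r • a = χ r • a := by
        rw [show residue R r = algebraMap R (ResidueField R) (algebraMap k R (χ r)) from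
          Ideal.Quotient.eq.2 (sub_mem_maximalIdeal χ r), algebraMap_smul, algebraMap_smul]
      rw [this]
      exact Submodule.smul_mem _ _ ha
  rw [finrank_residue χ, (LinearEquiv.ofBijective L hL).finrank_eq, Module.finrank_linearMap,
    Module.finrank_self, mul_one]

end Groth.Agent.PicTangent
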